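import Cfsg.Agent.Helper74.CharBasic
import Cfsg.Agent.Helper79.Linear
import Cfsg.Agent.Helper3.ColumnOrth

/-!
# Brauer 1943, case `ε = +1` (helper82, layer L4 of S0996): the abstract inequality

`G` a finite group, `P ≤ G` of order `p`, `θ` an irreducible character of degree `e` with
`[θ|_P, θ|_P] = e`.  If every irreducible character `ψ ≠ 1` of `G` either has degree `1 + n p`
and `∑_{z ∈ P} ψ z = (n+1) p`, or satisfies `∑_{z ∈ P} ψ z ≤ ψ 1`, then
`(p - 1 - e)(e - 1)(n + 1) ≤ (p - 1)(e - 1)`.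
-/

set_option autoImplicit false

namespace Cfsg.Agent.Helper82.Brauer43

open Cfsg Cfsg.Agent.Helper74
open scoped ComplexConjugate

universe u

variable {G : Type u} [Group G] [Fintype G]

/-- The sum of a character over a subgroup `P` is `|P|` times a natural number
(the multiplicity of the trivial character in the restriction). -/
theorem sum_subgroup_eq_nat (P : Subgroup G) [Fintype P] {ψ : G → ℂ} (hψ : IsCharacter G ψ) :
    ∃ a : ℕ, ∑ z : P, ψ z = ((Nat.card P * a : ℕ) : ℂ) := by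
  obtain ⟨a, ha⟩ := isCharacter_inner_irr_nat (isCharacter_restrict P hψ)
    ⟨fun _ => 1, Cfsg.Agent.Helper79.isIrrCharacter_one⟩
  refine ⟨a, ?_⟩
  rw [classInner_def] at ha
  simp only [map_one, mul_one] at ha
  have hP : (Nat.card P : ℂ) ≠ 0 := by exact_mod_cast Nat.card_pos.ne'
  push_cast
  rw [← ha, ← mul_assoc, mul_inv_cancel₀ hP, one_mul]

/-- **Case `ε = +1`, abstract core.** -/
theorem eps_plus_core (P : Subgroup G) [Fintype P] (p e n : ℕ) (hP : Nat.card P = p)
    (θ : IrrCharacter G) (hdeg : charDegree (θ : G → ℂ) = e)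
    (hθ2 : ∑ z : P, (θ : G → ℂ) z * conj ((θ : G → ℂ) z) = ((p * e : ℕ) : ℂ))
    (hIrr : ∀ ψ : IrrCharacter G, (ψ : G → ℂ) = (fun _ => 1) ∨
        (charDegree (ψ : G → ℂ) = 1 + n * p ∧
          ∑ z : P, (ψ : G → ℂ) z = (((n + 1) * p : ℕ) : ℂ)) ∨
        (∑ z : P, (ψ : G → ℂ) z).re ≤ (charDegree (ψ : G → ℂ) : ℝ)) :
    ((p : ℤ) - 1 - e) * (e - 1) * (n + 1) ≤ (p - 1) * (e - 1) := by
  classical
  letI : Fintype (IrrCharacter G) := irrFintype G
  have hppos : 0 < p := by rw [← hP]; exact Nat.card_pos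
  -- the character `θ θ̄`
  have hθc : IsCharacter G (θ : G → ℂ) := irr_isCharacter θ
  set Φ : G → ℂ := (θ : G → ℂ) * (fun g => conj ((θ : G → ℂ) g)) with hΦdef
  have hΦ : IsCharacter G Φ := isCharacter_mul hθc (isCharacter_conj hθc)
  have hexp := isCharacter_eq_sum_irr hΦ
  choose m hm using fun ψ : IrrCharacter G => isCharacter_inner_irr_nat hΦ ψ
  choose a ha using fun ψ : IrrCharacter G => sum_subgroup_eq_nat P (irr_isCharacter ψ)
  set d : IrrCharacter G → ℕ := fun ψ => charDegree (ψ : G → ℂ) with hd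
  have hdc : ∀ ψ : IrrCharacter G, (ψ : G → ℂ) 1 = (d ψ : ℂ) := fun ψ =>
    (charDegree_cast (irr_isCharacter ψ)).symm
  let one : IrrCharacter G := ⟨fun _ => 1, Cfsg.Agent.Helper79.isIrrCharacter_one⟩
  -- multiplicity of the trivial character
  have hm1 : m one = 1 := by
    have h1 := hm one
    have h2 : classInner Φ (one : G → ℂ) = classInner (θ : G → ℂ) (θ : G → ℂ) := by
      rw [classInner_def, classInner_def]
      congr 1
      refine Finset.sum_congr rfl fun g _ => ?_
      simp [hΦdef, one]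
    rw [h2, irr_inner_self] at h1
    exact_mod_cast h1.symm
  -- evaluation at 1
  have hE1 : e * e = ∑ ψ : IrrCharacter G, m ψ * d ψ := by
    have h1 := congrFun hexp 1
    simp only [Finset.sum_apply, Pi.smul_apply, smul_eq_mul, hm, hdc] at h1
    have h2 : Φ 1 = ((e * e : ℕ) : ℂ) := by
      simp only [hΦdef, Pi.mul_apply]
      rw [hdc θ]
      simp [hd, hdeg]
    rw [h2] at h1
    exact_mod_cast h1
  -- sum over P
  have hEP : p * e = ∑ ψ : IrrCharacter G, m ψ * (p * a ψ) := by
    have h1 : ∑ z : P, Φ z = ∑ ψ : IrrCharacter G, (m ψ : ℂ) * ∑ z : P, (ψ : G → ℂ) z := by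
      have h2 : ∀ z : P, Φ z = ∑ ψ : IrrCharacter G, (m ψ : ℂ) * (ψ : G → ℂ) z := by
        intro z
        have h3 := congrFun hexp z
        simpa only [Finset.sum_apply, Pi.smul_apply, smul_eq_mul, hm] using h3
      simp only [h2]
      rw [Finset.sum_comm]
      refine Finset.sum_congr rfl fun ψ _ => ?_
      rw [Finset.mul_sum]
    have h4 : ∑ z : P, Φ z = ((p * e : ℕ) : ℂ) := by
      rw [← hθ2]
      refine Finset.sum_congr rfl fun z _ => ?_
      simp [hΦdef]
    rw [h4] at h1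
    simp only [ha, hP] at h1
    exact_mod_cast h1
  -- the classification of the constituents
  have hone_a : a one = 1 := by
    have h1 := ha one
    have h2 : ∑ z : P, (one : G → ℂ) z = (Nat.card P : ℂ) := by
      simp [one, Nat.card_eq_fintype_card]
    rw [h2] at h1
    have h3 : Nat.card P = Nat.card P * a one := by exact_mod_cast h1
    have := Nat.card_pos (α := P)
    nlinarith
  have hone_d : d one = 1 := by
    have h1 := hdc one
    have h2 : (one : G → ℂ) 1 = 1 := rfl
    rw [h2] at h1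
    exact_mod_cast h1.symm
  -- α ψ = 1 on the characters of type (b), 0 otherwise
  let α : IrrCharacter G → ℕ := fun ψ =>
    if ψ = one then 0 else if d ψ = 1 + n * p ∧ a ψ = n + 1 then 1 else 0
  have hα1 : α one = 0 := by simp [α]
  have hαb : ∀ ψ : IrrCharacter G, ψ ≠ one → (d ψ = 1 + n * p ∧ a ψ = n + 1) → α ψ = 1 := by
    intro ψ h1 h2
    simp only [α, if_neg h1, if_pos h2]
  have hαc : ∀ ψ : IrrCharacter G, ψ ≠ one → ¬ (d ψ = 1 + n * p ∧ a ψ = n + 1) → α ψ = 0 := by
    intro ψ h1 h2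
    simp only [α, if_neg h1, if_neg h2]
  have hi : ∀ ψ : IrrCharacter G, α ψ * ((n + 1) * p) + (if ψ = one then p else 0) ≤ p * a ψ := by
    intro ψ
    by_cases h1 : ψ = one
    · subst h1
      rw [hα1, if_pos rfl, hone_a]
      omega
    · rw [if_neg h1]
      by_cases h2 : d ψ = 1 + n * p ∧ a ψ = n + 1
      · rw [hαb ψ h1 h2, h2.2]
        apply le_of_eq
        ring
      · rw [hαc ψ h1 h2]
        omega
  have hii : ∀ ψ : IrrCharacter G,
      p * a ψ + (α ψ + (if ψ = one then 1 else 0)) ≤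
        d ψ + (α ψ + (if ψ = one then 1 else 0)) * p := by
    intro ψ
    by_cases h1 : ψ = one
    · subst h1
      rw [hα1, if_pos rfl, hone_a, hone_d]
      omega
    · rw [if_neg h1]
      by_cases h2 : d ψ = 1 + n * p ∧ a ψ = n + 1
      · rw [hαb ψ h1 h2, h2.2, h2.1]
        apply le_of_eq
        ring
      · rw [hαc ψ h1 h2]
        simp only [add_zero, zero_mul]
        rcases hIrr ψ with h3 | h3 | h3
        · exact absurd (Subtype.ext h3) h1
        · exfalso
          apply h2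
          refine ⟨h3.1, ?_⟩
          have h4 := ha ψ
          rw [h3.2, hP] at h4
          have h5 : (n + 1) * p = p * a ψ := by exact_mod_cast h4
          have : p * (n + 1) = p * a ψ := by rw [← h5]; ring
          exact (Nat.eq_of_mul_eq_mul_left hppos this).symm
        · rw [ha ψ, hP] at h3
          have h4 : ((p * a ψ : ℕ) : ℝ) ≤ (d ψ : ℝ) := by simpa using h3
          exact_mod_cast h4
  set A : ℕ := ∑ ψ : IrrCharacter G, m ψ * α ψ with hA
  have hpsum : ∀ c : ℕ, ∑ ψ : IrrCharacter G, m ψ * (if ψ = one then c else 0) = c := by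
    intro c
    rw [Finset.sum_eq_single one]
    · simp [hm1]
    · intro ψ _ hne; simp [hne]
    · intro h; exact absurd (Finset.mem_univ _) h
  have hsum1 : A * ((n + 1) * p) + p ≤ p * e := by
    calc A * ((n + 1) * p) + p
        = ∑ ψ : IrrCharacter G, m ψ * (α ψ * ((n + 1) * p) + (if ψ = one then p else 0)) := by
          simp only [mul_add, Finset.sum_add_distrib, hpsum]
          rw [hA, Finset.sum_mul]
          congr 1
          refine Finset.sum_congr rfl fun ψ _ => ?_
          ring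
      _ ≤ ∑ ψ : IrrCharacter G, m ψ * (p * a ψ) :=
          Finset.sum_le_sum fun ψ _ => Nat.mul_le_mul_left _ (hi ψ)
      _ = p * e := hEP.symm
  have hsum2 : p * e + (A + 1) ≤ e * e + (A + 1) * p := by
    have h1 : A + 1 = ∑ ψ : IrrCharacter G, m ψ * (α ψ + (if ψ = one then 1 else 0)) := by
      simp only [mul_add, Finset.sum_add_distrib, hpsum, hA]
    calc p * e + (A + 1)
        = ∑ ψ : IrrCharacter G, m ψ * (p * a ψ + (α ψ + (if ψ = one then 1 else 0))) := by
          rw [hEP, h1]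
          simp only [mul_add, Finset.sum_add_distrib]
      _ ≤ ∑ ψ : IrrCharacter G, m ψ * (d ψ + (α ψ + (if ψ = one then 1 else 0)) * p) :=
          Finset.sum_le_sum fun ψ _ => Nat.mul_le_mul_left _ (hii ψ)
      _ = e * e + (A + 1) * p := by
          rw [hE1, h1, Finset.sum_mul, ← Finset.sum_add_distrib]
          refine Finset.sum_congr rfl fun ψ _ => ?_
          ring
  -- final arithmetic
  have h1 : (A : ℤ) * (n + 1) ≤ e - 1 := by
    have h2 : (A * (n + 1) + 1) * p ≤ e * p := by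
      calc (A * (n + 1) + 1) * p = A * ((n + 1) * p) + p := by ring
        _ ≤ p * e := hsum1
        _ = e * p := by ring
    have h3 := Nat.le_of_mul_le_mul_right h2 hppos
    have : ((A * (n + 1) + 1 : ℕ) : ℤ) ≤ (e : ℤ) := by exact_mod_cast h3
    push_cast at this
    linarith
  have h2 : ((p : ℤ) - 1 - e) * (e - 1) ≤ A * (p - 1) := by
    have h3 : ((p * e + (A + 1) : ℕ) : ℤ) ≤ ((e * e + (A + 1) * p : ℕ) : ℤ) := by
      exact_mod_cast hsum2
    push_cast at h3
    nlinarith
  have hp1 : (0 : ℤ) ≤ (p : ℤ) - 1 := by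
    have : (1 : ℤ) ≤ p := by exact_mod_cast hppos
    linarith
  have hn1 : (0 : ℤ) ≤ (n : ℤ) + 1 := by positivity
  calc ((p : ℤ) - 1 - e) * (e - 1) * (n + 1) ≤ (A * (p - 1)) * (n + 1) :=
        mul_le_mul_of_nonneg_right h2 hn1
    _ = (p - 1) * (A * (n + 1)) := by ring
    _ ≤ (p - 1) * (e - 1) := mul_le_mul_of_nonneg_left h1 hp1

/-- Arithmetic consequence: with `p - 1 = t e`, `e ≥ 2`, `t ≥ 2`, `n ≥ 1` the inequality of
`eps_plus_core` forces `t = 2` and `n = 1`. -/
theorem t_eq_two_of_bound (p e n t : ℕ) (hte : p = t * e + 1) (he : 2 ≤ e) (ht : 2 ≤ t)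
    (hn : 1 ≤ n)
    (h : ((p : ℤ) - 1 - e) * (e - 1) * (n + 1) ≤ (p - 1) * (e - 1)) : t = 2 ∧ n = 1 := by
  subst hte
  push_cast at h
  have he' : (2 : ℤ) ≤ e := by exact_mod_cast he
  have ht' : (2 : ℤ) ≤ t := by exact_mod_cast ht
  have hn' : (1 : ℤ) ≤ n := by exact_mod_cast hn
  have hpos : (0 : ℤ) < (e : ℤ) * (e - 1) := by nlinarith
  have h1 : ((t : ℤ) - 1) * (n + 1) * (e * (e - 1)) ≤ t * (e * (e - 1)) := by
    calc ((t : ℤ) - 1) * (n + 1) * (e * (e - 1))
        = ((t : ℤ) * e + 1 - 1 - e) * (e - 1) * (n + 1) := by ring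
      _ ≤ ((t : ℤ) * e + 1 - 1) * (e - 1) := h
      _ = t * (e * (e - 1)) := by ring
  have h2 : ((t : ℤ) - 1) * (n + 1) ≤ t := le_of_mul_le_mul_right h1 hpos
  have h3 : (t : ℤ) ≤ 2 := by nlinarith
  have h4 : (t : ℤ) = 2 := le_antisymm h3 ht'
  rw [h4] at h2
  have h5 : (n : ℤ) = 1 := by linarith
  exact ⟨by exact_mod_cast h4, by exact_mod_cast h5⟩

end Cfsg.Agent.Helper82.Brauer43
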