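import Cfsg.Agent.Helper16.Brauer43.L3Defs
import Cfsg.Agent.Helper82.Brauer43.EpsPlus

/-!
# Brauer 1943 (S0996), layer L4 (helper82): the case `δ = +1` forces `t = 2`, `n = 1`

Glue between helper16's `L0Data` and `eps_plus_core`.
-/

set_option autoImplicit false

namespace Cfsg.Agent.Helper82.Brauer43

open Cfsg Cfsg.Agent.Helper16 Cfsg.Agent.Helper16.DefOne Cfsg.Agent.Helper82.DefOne
  Cfsg.Agent.Helper77.DefOne Cfsg.Agent.Helper16.Brauer43 Cfsg.Agent.Helper74
open scoped ComplexConjugate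

universe u

variable {G : Type u} [Group G] [Fintype G] {p : ℕ} [Fact p.Prime] (P : Sylow p G)
  [Fintype (P : Subgroup G)] (D : L0Data P)

/-- the sum over `P` of a function which is constant `c` on `P \ 1` -/
theorem sum_P_of_const (hP : Nat.card P = p) (f : G → ℂ) (c : ℂ)
    (hf : ∀ x : G, x ∈ (P : Subgroup G) → x ≠ 1 → f x = c) :
    ∑ z : (P : Subgroup G), f z = f 1 + ((p : ℂ) - 1) * c := by
  classical
  rw [← Finset.add_sum_erase Finset.univ (fun z : (P : Subgroup G) => f z)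
    (Finset.mem_univ (1 : (P : Subgroup G)))]
  congr 1
  have h1 : ∀ z ∈ Finset.univ.erase (1 : (P : Subgroup G)), f (z : G) = c := by
    intro z hz
    apply hf z z.2
    intro h
    exact (Finset.mem_erase.mp hz).1 (Subtype.ext h)
  rw [Finset.sum_congr rfl h1, Finset.sum_const, Finset.card_erase_of_mem (Finset.mem_univ _),
    Finset.card_univ, ← Nat.card_eq_fintype_card, hP, nsmul_eq_mul]
  have hp : 1 ≤ p := (Fact.out : p.Prime).one_lt.le
  rw [Nat.cast_sub hp]
  simp

/-- **L4**: in the case `δ = +1` (exceptional characters of degree `e`), `t = 2` and `n = 1`. -/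
theorem eps_plus_n_eq_one (hP : Nat.card P = p) (e n t : ℕ)
    (he : (cen P).relIndex (nor P) = e) (hte : p = t * e + 1) (he2 : 2 ≤ e) (ht2 : 2 ≤ t)
    (hn1 : 1 ≤ n) (hδ : D.δ = 1)
    (hXp : ∀ χ ∈ D.X, D.ε χ = 1 →
      (χ : G → ℂ) = (fun _ => 1) ∨ charDegree (χ : G → ℂ) = 1 + n * p)
    (θ : IrrCharacter G) (hθ : θ ∈ D.Y)
    (hY : ∀ ψ ∈ D.Y, charDegree (ψ : G → ℂ) = e) : t = 2 ∧ n = 1 := by
  classical
  have hp : p.Prime := Fact.out
  have hp1 : 1 ≤ p := hp.one_lt.le
  refine t_eq_two_of_bound p e n t hte he2 ht2 hn1 ?_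
  refine eps_plus_core (P : Subgroup G) p e n hP θ (hY θ hθ) ?_ ?_
  · -- `[θ|_P, θ|_P] = e`
    rw [D.hY2 θ hθ, hY θ hθ, he]
    push_cast
    ring
  · intro ψ
    have hdc : (ψ : G → ℂ) 1 = (charDegree (ψ : G → ℂ) : ℂ) :=
      (charDegree_cast (irr_isCharacter ψ)).symm
    by_cases hψX : ψ ∈ D.X
    · have hsum := sum_P_of_const P hP (ψ : G → ℂ) (D.ε ψ : ℂ) (D.hX ψ hψX)
      rcases D.hε ψ with h1 | h1
      · rcases hXp ψ hψX h1 with h2 | h2
        · exact Or.inl h2
        · right; left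
          refine ⟨h2, ?_⟩
          rw [hsum, hdc, h2, h1]
          push_cast
          ring
      · right; right
        rw [hsum, hdc, h1]
        have h3 : ((charDegree (ψ : G → ℂ) : ℂ) + ((p : ℂ) - 1) * ((-1 : ℤ) : ℂ)).re =
            (charDegree (ψ : G → ℂ) : ℝ) - ((p : ℝ) - 1) := by
          simp
          ring
        rw [h3]
        have : (1 : ℝ) ≤ p := by exact_mod_cast hp1
        linarith
    · by_cases hψY : ψ ∈ D.Y
      · right; right
        rw [D.hY1 ψ hψY, hY ψ hψY, he, hδ]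
        simp
      · right; right
        have hsum := sum_P_of_const P hP (ψ : G → ℂ) 0 (D.hZ ψ hψX hψY)
        rw [hsum, hdc]
        simp

end Cfsg.Agent.Helper82.Brauer43
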