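import Cfsg.Agent.Helper82.Brauer43.CharSide

/-!
# Brauer 1943 (S0996): the character side, split by the sign `δ` (helper82)

The two theorems (E+) and (E-) requested by helper77 (#7384), on top of `ConfigConcl`.
-/

set_option autoImplicit false

namespace Cfsg.Agent.Helper82.Brauer43

open Cfsg Cfsg.Agent.Helper16 Cfsg.Agent.Helper16.DefOne Cfsg.Agent.Helper82.DefOne
  Cfsg.Agent.Helper77.DefOne Cfsg.Agent.Helper16.Brauer43 Cfsg.Agent.Helper74
open scoped ComplexConjugate Pointwise

universe u

variable {G : Type u} [Group G] [Fintype G] {p : ℕ} [Fact p.Prime] (P : Sylow p G)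
  [Fintype (P : Subgroup G)] (D : L0Data P)

/-- **(E+)**: `δ = +1` forces `n = 1` and `t = 2`. -/
theorem char_side_plus (hP : Nat.card P = p) (hC : cen P = (P : Subgroup G))
    (hperf : commutator G = ⊤) (n t : ℕ) (hs : (nor P).index = 1 + n * p) (hn1 : 1 ≤ n)
    (hte : t * (cen P).relIndex (nor P) = p - 1) (ht : 2 ≤ t) (hcfg : ConfigConcl P D n t)
    (hδ : D.δ = 1) : n = 1 ∧ t = 2 := by
  rcases char_side P D hP hC hperf n t hs hn1 hte ht hcfg with h | ⟨h, -⟩
  · exact ⟨h.2, h.1⟩
  · rw [hδ] at h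
    exact absurd h (by norm_num)

/-- **(E-)**: `δ = -1` gives `∑_g |N ∩ g N g⁻¹| = (n + 1) |N|²`, together with the arithmetic
relations `a t = n + 1`, `e = 1 + a (1 + t k)`. -/
theorem char_side_minus (hP : Nat.card P = p) (hC : cen P = (P : Subgroup G))
    (hperf : commutator G = ⊤) (n t : ℕ) (hs : (nor P).index = 1 + n * p) (hn1 : 1 ≤ n)
    (hte : t * (cen P).relIndex (nor P) = p - 1) (ht : 2 ≤ t) (hcfg : ConfigConcl P D n t)
    (hδ : D.δ = -1) :
    (∃ a : ℕ, a * t = n + 1 ∧
      (cen P).relIndex (nor P) = 1 + a * (1 + t * Nat.card D.Xplus)) ∧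
    ∑ᶠ g : G, Nat.card ↥(Subgroup.normalizer ((P : Subgroup G) : Set G) ⊓
      MulAut.conj g • Subgroup.normalizer ((P : Subgroup G) : Set G)) =
      (n + 1) * (p * (cen P).relIndex (nor P)) ^ 2 := by
  -- remove the branch `δ = 1` from the configuration, then apply `char_side`
  have hcfg' : ConfigConcl P D n t := hcfg
  obtain ⟨h1, h2, h3, h4⟩ := hcfg
  rcases h4 with ⟨h, -⟩ | h4
  · rw [hδ] at h
    exact absurd h (by norm_num)
  · -- `char_side` can only return its second alternative, except when `t = 2 ∧ n = 1`;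
    -- in both cases redo the second branch directly
    obtain ⟨-, a, hat, hY, hkm, hek, hsq⟩ := h4
    have hp : p.Prime := Fact.out
    obtain ⟨he1, hed, hep⟩ := e_basic P hP
    have hp2 := hp.two_le
    have ht' : 2 ≤ (p - 1) / (cen P).relIndex (nor P) := by
      rw [← hte, Nat.mul_div_cancel _ he1]
      exact ht
    obtain ⟨hprX, hprε⟩ := GL.principal_mem_X P D hperf ht'
    refine ⟨⟨a, hat, hek⟩, ?_⟩
    obtain ⟨e, he⟩ : ∃ e : ℕ, (cen P).relIndex (nor P) = e := ⟨_, rfl⟩
    rw [he] at hte he1 hed hep hY hek ⊢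
    have hte' : p = t * e + 1 := by omega
    have hnor := nor_eq_normalizer P hP
    have hS : Nat.card (Sylow p G) = 1 + n * p := by
      rw [Sylow.card_eq_index_normalizer P, ← hs, hnor]
      rfl
    have hN : Nat.card (Subgroup.normalizer ((P : Subgroup G) : Set G)) = p * e := by
      rw [← hnor, card_nor_eq P, he, hC, hP, mul_comm]
    have ha : 1 ≤ a := by
      rcases Nat.eq_zero_or_pos a with h | h
      · rw [h, zero_mul] at hat; omega
      · exact h
    refine hsum_of_config P D hP e n t a he hS hN hte' hat ha he1 (by omega) hδ hprX ?_ ?_ hY ?_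
    · intro χ hχ hε
      by_cases hne : χ = Helper79.principalIrr G
      · left; exact hne
      · right; exact (h1 χ ⟨hχ, hne, hε⟩).ge
    · intro χ hχ hε
      have := h2 χ ⟨hχ, hε⟩
      omega
    · have hZ : ((D.X ∪ D.Y)ᶜ : Set (IrrCharacter G)) = D.Zset := by
        ext χ
        simp only [Set.mem_compl_iff, Set.mem_union, not_or, L0Data.Zset, Set.mem_ofPred_eq]
      rw [hZ]
      exact hsq

end Cfsg.Agent.Helper82.Brauer43
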