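import Cfsg.Agent.S0732
import Cfsg.Agent.Helper58.SA1

/-!
# Brauer 1943 (S0996), layer L6a: recognition of `PSL(2,p)` when there are `p + 1` Sylow
`p`-subgroups (helper82)

`G` perfect, `P` a self-centralizing Sylow `p`-subgroup of order `p`, `|Syl_p(G)| = p + 1`,
`|N_G(P)| = p e` with `2 e = p - 1`, `e ≥ 2`.  Then `p > 3` and `G ≅ PSL(2,p)`.
-/

set_option autoImplicit false

namespace Cfsg.Agent.Helper82.Brauer43

open Cfsg

/-- The conjugation action on the Sylow `p`-subgroups is faithful when a Sylow `p`-subgroup `P` of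
prime order is self-centralizing and not normal. -/
theorem sylow_action_injective {G : Type*} [Group G] [Finite G] (p : ℕ) [Fact p.Prime]
    (P : Sylow p G) (hP : Nat.card P = p)
    (hC : Subgroup.centralizer ((P : Subgroup G) : Set G) = (P : Subgroup G))
    (hs : 2 ≤ Nat.card (Sylow p G)) :
    Function.Injective (MulAction.toPermHom G (Sylow p G)) := by
  classical
  have hp : p.Prime := Fact.out
  rw [injective_iff_map_eq_one]
  intro k hk
  have hfix : ∀ Q : Sylow p G, k • Q = Q := fun Q => by
    have := congrArg (fun σ : Equiv.Perm (Sylow p G) => σ Q) hk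
    simpa using this
  -- elements of the kernel lying in `P` are trivial
  have hKP : ∀ x : G, (∀ Q : Sylow p G, x • Q = Q) → x ∈ (P : Subgroup G) → x = 1 := by
    intro x hx hxP
    by_contra hx1
    -- another Sylow subgroup
    obtain ⟨Q, hQ⟩ : ∃ Q : Sylow p G, Q ≠ P := by
      by_contra hcon
      push Not at hcon
      have : Subsingleton (Sylow p G) := ⟨fun a b => (hcon a).trans (hcon b).symm⟩
      have h1 : Nat.card (Sylow p G) ≤ 1 := Finite.card_le_one_iff_subsingleton.mpr this
      omega
    have hxN : x ∈ Subgroup.normalizer (Q : Set G) :=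
      Sylow.smul_eq_iff_mem_normalizer.mp (hx Q)
    have hzP : Subgroup.zpowers x ≤ (P : Subgroup G) := by
      rw [Subgroup.zpowers_le]; exact hxP
    have hzp : IsPGroup p (Subgroup.zpowers x) := P.isPGroup'.to_le hzP
    have hzN : Subgroup.zpowers x ≤ Subgroup.normalizer (Q : Set G) := by
      rw [Subgroup.zpowers_le]; exact hxN
    have hzQ : Subgroup.zpowers x ≤ (Q : Subgroup G) := by
      have h1 := hzp.inf_normalizer_sylow Q
      rw [inf_eq_left.mpr hzN] at h1
      exact inf_eq_left.mp h1.symm
    -- `zpowers x = P` since `|P| = p`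
    have hcard : Nat.card (Subgroup.zpowers x) = p := by
      have h1 : Nat.card (Subgroup.zpowers x) ∣ p := by
        rw [← hP]; exact Subgroup.card_dvd_of_le hzP
      rcases (Nat.dvd_prime hp).mp h1 with h2 | h2
      · exfalso
        rw [Nat.card_zpowers, orderOf_eq_one_iff] at h2
        exact hx1 h2
      · exact h2
    have hzeq : Subgroup.zpowers x = (P : Subgroup G) := by
      apply Subgroup.eq_of_le_of_card_ge hzP
      rw [hcard, hP]
    have hPQ : (P : Subgroup G) ≤ (Q : Subgroup G) := hzeq ▸ hzQ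
    have h3 : (Q : Subgroup G) = (P : Subgroup G) := P.is_maximal' Q.isPGroup' hPQ
    exact hQ (Sylow.ext h3)
  have hkN : k ∈ Subgroup.normalizer ((P : Subgroup G) : Set G) :=
    Sylow.smul_eq_iff_mem_normalizer.mp (hfix P)
  -- `k` centralizes `P`
  have hkC : k ∈ Subgroup.centralizer ((P : Subgroup G) : Set G) := by
    rw [Subgroup.mem_centralizer_iff]
    intro x hx
    have hx' : x ∈ (P : Subgroup G) := hx
    have hc : k * x * k⁻¹ * x⁻¹ = 1 := by
      apply hKP
      · intro Q
        have h1 : (k * x * k⁻¹ * x⁻¹) • Q = k • x • k⁻¹ • x⁻¹ • Q := by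
          simp only [mul_smul]
        have hker : ∀ y : G, (∀ Q : Sylow p G, y • Q = Q) → ∀ Q : Sylow p G, y⁻¹ • Q = Q := by
          intro y hy Q
          rw [inv_smul_eq_iff, hy Q]
        rw [h1]
        -- `x * k⁻¹ * x⁻¹` acts trivially
        have h2 : x • k⁻¹ • x⁻¹ • Q = Q := by
          rw [hker k hfix (x⁻¹ • Q), smul_inv_smul]
        rw [h2, hfix Q]
      · have h1 : k * x * k⁻¹ ∈ (P : Subgroup G) :=
          (Subgroup.mem_normalizer_iff.mp hkN x).mp hx'
        exact (P : Subgroup G).mul_mem h1 ((P : Subgroup G).inv_mem hx')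
    have : k * x * k⁻¹ = x := by
      have := congrArg (· * x) hc
      simpa using this
    calc x * k = (k * x * k⁻¹) * k := by rw [this]
      _ = k * x := by group
  rw [hC] at hkC
  exact hKP k hfix hkC

/-- A perfect finite group does not embed in a semi-affine group `AΓL(1, 2^q)` (`q` prime)
unless its order is at most `|AGL(1, 2^q)| = 2^q (2^q - 1)`. -/
theorem card_le_of_perfect_semiaffine {G : Type*} [Group G] [Finite G]
    (hperf : commutator G = ⊤) (q : ℕ) (hq : q.Prime)
    (ψ : G →* Cfsg.semiaffineGroup (GaloisField 2 q)) (hψ : Function.Injective ψ) :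
    Nat.card G ≤ (2 ^ q - 1) * 2 ^ q := by
  classical
  have : Fact q.Prime := ⟨hq⟩
  have hF : Nat.card (GaloisField 2 q) = 2 ^ q := GaloisField.card 2 q hq.ne_zero
  haveI : Finite (GaloisField 2 q) := Nat.finite_of_card_ne_zero (by rw [hF]; positivity)
  have hA : Nat.card (GaloisField 2 q ≃+* GaloisField 2 q) = q :=
    Cfsg.Agent.Helper58.SA.card_ringAut 2 q hF
  haveI : IsCyclic (GaloisField 2 q ≃+* GaloisField 2 q) := isCyclic_of_prime_card hA
  letI : CommGroup (GaloisField 2 q ≃+* GaloisField 2 q) := IsCyclic.commGroup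
  let f : G →* (GaloisField 2 q ≃+* GaloisField 2 q) :=
    (Cfsg.Agent.Helper58.SA.saAut (GaloisField 2 q)).comp ψ
  have hker : ∀ g : G, f g = 1 := by
    intro g
    have h1 := Abelianization.commutator_subset_ker f
    rw [hperf] at h1
    exact h1 (Subgroup.mem_top g)
  have haff : ∀ g : G, ((ψ g : Cfsg.semiaffineGroup (GaloisField 2 q)) :
      Equiv.Perm (GaloisField 2 q)) ∈ Cfsg.affineGroup (GaloisField 2 q) := fun g =>
    Cfsg.Agent.Helper58.SA.mem_affine_of_saAut_eq_one (ψ g) (hker g)
  have hle : Nat.card G ≤ Nat.card (Cfsg.affineGroup (GaloisField 2 q)) := by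
    refine Nat.card_le_card_of_injective
      (fun g => (⟨(ψ g : Equiv.Perm (GaloisField 2 q)), haff g⟩ :
        Cfsg.affineGroup (GaloisField 2 q))) ?_
    intro g g' h
    apply hψ
    apply Subtype.ext
    exact congrArg (fun σ : Cfsg.affineGroup (GaloisField 2 q) =>
      (σ : Equiv.Perm (GaloisField 2 q))) h
  rw [Cfsg.Agent.Helper58.SA.card_affine, hF] at hle
  exact hle

/-- **L6a**: recognition of `PSL(2,p)` from `p + 1` Sylow `p`-subgroups. -/
theorem recog_psl2p {G : Type*} [Group G] [Finite G] (hperf : commutator G = ⊤) (p : ℕ)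
    [Fact p.Prime] (P : Sylow p G) (hP : Nat.card P = p)
    (hC : Subgroup.centralizer ((P : Subgroup G) : Set G) = (P : Subgroup G))
    (hs : Nat.card (Sylow p G) = p + 1) (e : ℕ)
    (hN : Nat.card (Subgroup.normalizer ((P : Subgroup G) : Set G)) = p * e)
    (he : 2 * e = p - 1) (he2 : 2 ≤ e) :
    3 < p ∧ Nonempty (G ≃* Matrix.ProjectiveSpecialLinearGroup (Fin 2) (ZMod p)) := by
  classical
  have hp : p.Prime := Fact.out
  have hp5 : 3 < p := by omega
  refine ⟨hp5, ?_⟩
  letI : Fintype (Sylow p G) := Fintype.ofFinite _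
  have hα : Fintype.card (Sylow p G) = p + 1 := by
    rw [← Nat.card_eq_fintype_card]; exact hs
  have hinj := sylow_action_injective p P hP hC (by rw [hs]; have := hp.two_le; omega)
  set φ : G →* Equiv.Perm (Sylow p G) := MulAction.toPermHom G (Sylow p G) with hφ
  -- the order of `G`
  have hcardG : Nat.card G = (p + 1) * p * e := by
    have h1 := Sylow.card_eq_index_normalizer P
    have h2 := Subgroup.card_mul_index (Subgroup.normalizer ((P : Subgroup G) : Set G))
    have h3 : (Subgroup.normalizer ((P : Subgroup G) : Set G)).index = p + 1 := by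
      rw [← hs]; exact h1.symm
    rw [hN, h3] at h2
    rw [← h2]; ring
  let ι : G ≃* φ.range := MonoidHom.ofInjective hinj
  have hcardR : Nat.card φ.range = (p + 1) * p * e := by
    rw [← hcardG]; exact (Nat.card_congr ι.toEquiv).symm
  haveI : MulAction.IsPretransitive φ.range (Sylow p G) := by
    refine ⟨fun Q R => ?_⟩
    obtain ⟨g, hg⟩ := MulAction.exists_smul_eq G Q R
    exact ⟨⟨φ g, ⟨g, rfl⟩⟩, hg⟩
  have hd : e < p := by omega
  rcases Cfsg.Agent.S0732.result hp hα φ.range hcardR hd with h | h | h
  · exfalso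
    omega
  · obtain ⟨-, ⟨j⟩⟩ := h
    exact ⟨ι.trans j⟩
  · exfalso
    obtain ⟨q, hq, hpq, -, ε, hε⟩ := h
    -- the embedding into the semi-affine group
    let ψ : G →* Cfsg.semiaffineGroup (GaloisField 2 q) :=
      { toFun := fun g => ⟨ε.symm.trans ((φ g).trans ε), hε ⟨φ g, ⟨g, rfl⟩⟩⟩
        map_one' := by
          apply Subtype.ext
          ext x
          simp
        map_mul' := by
          intro g g'
          apply Subtype.ext
          ext x
          simp }
    have hψ : Function.Injective ψ := by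
      intro g g' h
      apply hinj
      have h1 : ε.symm.trans ((φ g).trans ε) = ε.symm.trans ((φ g').trans ε) :=
        congrArg Subtype.val h
      refine Equiv.ext fun Q => ?_
      have h2 := congrArg (fun σ : Equiv.Perm (GaloisField 2 q) => ε.symm (σ (ε Q))) h1
      simpa using h2
    have hle := card_le_of_perfect_semiaffine hperf q hq ψ hψ
    rw [hcardG, ← hpq] at hle
    have h1 : (p + 1 - 1) * (p + 1) = (p + 1) * p := by
      rw [Nat.add_sub_cancel]; ring
    rw [h1] at hle
    have h2 : (p + 1) * p * 2 ≤ (p + 1) * p * e := Nat.mul_le_mul_left _ he2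
    have h3 : 0 < (p + 1) * p := by positivity
    omega

end Cfsg.Agent.Helper82.Brauer43
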