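import Mathlib

/-!
# Brauer 1943 (S0996), RANK part 1 (helper82): `Σ_g |N ∩ g N g⁻¹| = |N|² · rank`

For a transitive action of a finite group `G` on `Ω` with point stabilizer `N = G_a`:
`∑_g |N ⊓ g N g⁻¹| = |N|² · #(N-orbits on Ω)`.
-/

set_option autoImplicit false

namespace Cfsg.Agent.Helper82.Brauer43

open MulAction
open scoped Pointwise

variable {G : Type*} [Group G] {Ω : Type*} [MulAction G Ω]

/-- `G_a ∩ g G_a g⁻¹ = G_a ∩ G_{g a}` -/
theorem stabilizer_inf_conj (a : Ω) (g : G) :
    stabilizer G a ⊓ MulAut.conj g • stabilizer G a = stabilizer G a ⊓ stabilizer G (g • a) := by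
  rw [stabilizer_smul_eq_stabilizer_map_conj, Subgroup.pointwise_smul_def]
  rfl

/-- the stabilizer of `b` in `G_a` has the cardinality of `G_a ∩ G_b` -/
theorem card_stabilizer_inf (a b : Ω) :
    Nat.card ↥(stabilizer G a ⊓ stabilizer G b) = Nat.card (stabilizer (stabilizer G a) b) := by
  refine Nat.card_congr
    ⟨fun x => ⟨⟨x.1, x.2.1⟩, ?_⟩, fun y => ⟨y.1.1, ⟨y.1.2, ?_⟩⟩, fun x => rfl, fun y => rfl⟩
  · rw [mem_stabilizer_iff]
    exact x.2.2
  · have := y.2
    rw [mem_stabilizer_iff] at this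
    exact this

/-- a sum over the group of a function of `g • a` is `|G_a|` times the sum over the orbit -/
theorem sum_smul_eq [Fintype G] [Fintype Ω] [IsPretransitive G Ω] (a : Ω) (F : Ω → ℕ) :
    ∑ g : G, F (g • a) = Nat.card (stabilizer G a) * ∑ b : Ω, F b := by
  classical
  rw [← Fintype.sum_fiberwise (fun g : G => g • a) (fun g => F (g • a)), Finset.mul_sum]
  refine Finset.sum_congr rfl fun b _ => ?_
  have h1 : ∀ i : {g : G // g • a = b}, F ((i : G) • a) = F b := fun i => by rw [i.2]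
  simp only [h1]
  rw [Finset.sum_const, smul_eq_mul, Finset.card_univ]
  congr 1
  obtain ⟨g₀, hg₀⟩ := exists_smul_eq G a b
  rw [← Nat.card_eq_fintype_card]
  refine Nat.card_congr ⟨fun i => ⟨g₀⁻¹ * i.1, ?_⟩, fun s => ⟨g₀ * s.1, ?_⟩, fun i => ?_, fun s => ?_⟩
  · rw [mem_stabilizer_iff, mul_smul, i.2, ← hg₀, inv_smul_smul]
  · rw [mul_smul, mem_stabilizer_iff.mp s.2, hg₀]
  · apply Subtype.ext; simp
  · apply Subtype.ext; simp

/-- Burnside, stabilizer form: `∑_b |H_b| = #orbits · |H|` -/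
theorem sum_card_stabilizer (H : Type*) [Group H] [Fintype H] [MulAction H Ω] [Fintype Ω] :
    ∑ b : Ω, Nat.card (stabilizer H b) = Nat.card (orbitRel.Quotient H Ω) * Nat.card H := by
  classical
  have hB := sum_card_fixedBy_eq_card_orbits_mul_card_group H Ω
  simp only [← Nat.card_eq_fintype_card] at hB
  rw [← hB]
  have h1 : ∀ b : Ω, Nat.card (stabilizer H b) = ∑ h : H, if h • b = b then 1 else 0 := by
    intro b
    rw [Finset.sum_boole, Nat.card_eq_fintype_card, Fintype.card_subtype]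
    simp [mem_stabilizer_iff]
  have h2 : ∀ h : H, Nat.card (fixedBy Ω h) = ∑ b : Ω, if h • b = b then 1 else 0 := by
    intro h
    rw [Finset.sum_boole, Nat.card_eq_fintype_card, Fintype.card_subtype]
    simp [mem_fixedBy]
  simp only [h1, h2]
  exact Finset.sum_comm

/-- **RANK, part 1.** -/
theorem sum_card_inf_conj [Fintype G] [Fintype Ω] [IsPretransitive G Ω] (a : Ω) :
    ∑ g : G, Nat.card ↥(stabilizer G a ⊓ MulAut.conj g • stabilizer G a) =
      Nat.card (stabilizer G a) ^ 2 * Nat.card (orbitRel.Quotient (stabilizer G a) Ω) := by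
  classical
  simp only [stabilizer_inf_conj, card_stabilizer_inf]
  rw [sum_smul_eq a (fun b => Nat.card (stabilizer (stabilizer G a) b)),
    sum_card_stabilizer (stabilizer G a)]
  ring

theorem sum_card_inf_conj' [Fintype G] [Fintype Ω] [IsPretransitive G Ω] (a : Ω)
    (N : Subgroup G) (hN : stabilizer G a = N) :
    ∑ g : G, Nat.card ↥(N ⊓ MulAut.conj g • N) =
      Nat.card N ^ 2 * Nat.card (orbitRel.Quotient N Ω) := by
  subst hN
  exact sum_card_inf_conj a

/-- **RANK, part 1, for the action on the Sylow subgroups**: if `N_G(P)` has `n + 1` orbits on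
`Syl_p(G)` and `|N_G(P)| = m` then `∑ᶠ g, |N ∩ g N g⁻¹| = (n + 1) m²` (the hypothesis `hsum` of
helper77's `card_Ez_of_sum`). -/
theorem hsum_of_rank {G : Type*} [Group G] [Finite G] {p : ℕ} [Fact p.Prime] (P : Sylow p G)
    (n m : ℕ) (hN : Nat.card (Subgroup.normalizer ((P : Subgroup G) : Set G)) = m)
    (hrank : Nat.card (orbitRel.Quotient (stabilizer G P) (Sylow p G)) = n + 1) :
    ∑ᶠ g : G, Nat.card ↥(Subgroup.normalizer ((P : Subgroup G) : Set G) ⊓
      MulAut.conj g • Subgroup.normalizer ((P : Subgroup G) : Set G)) = (n + 1) * m ^ 2 := by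
  classical
  letI : Fintype G := Fintype.ofFinite G
  letI : Fintype (Sylow p G) := Fintype.ofFinite _
  have hst : stabilizer G P = Subgroup.normalizer ((P : Subgroup G) : Set G) :=
    Sylow.stabilizer_eq_normalizer P
  rw [finsum_eq_sum_of_fintype]
  have h := sum_card_inf_conj (G := G) (Ω := Sylow p G) P
  rw [hrank] at h
  have h2 : Nat.card (stabilizer G P) = m := by rw [hst]; exact hN
  rw [h2] at h
  rw [mul_comm, ← h]
  refine Finset.sum_congr rfl fun g _ => ?_
  rw [hst]

end Cfsg.Agent.Helper82.Brauer43
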