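import Cfsg.Agent.Helper12.PermCharBasics
import Cfsg.Agent.Helper82.Brauer43.EpsPlus

/-!
# Brauer 1943 (S0996), RANK part 2a (helper82): multiplicities in a transitive permutation
character are bounded by the multiplicity of the trivial character on subgroups of the stabilizer

`G` transitive on `Ω`, `S = G_a`, `π` the permutation character, `ψ` irreducible:
`[π, ψ] = [ψ|_S, 1_S] ≤ [ψ|_H, 1_H]` for every `H ≤ S`.
-/

set_option autoImplicit false

namespace Cfsg.Agent.Helper82.Brauer43

open Cfsg Cfsg.Agent.Helper74 Cfsg.Agent.Helper12.PermCharBasics MulAction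
open scoped ComplexConjugate

universe u

/-- For a character `φ` of `S` and `H ≤ S`: `[φ, 1_S] ≤ [φ|_H, 1_H]`, both natural numbers. -/
theorem trivial_mult_le_restrict {S : Type u} [Group S] [Fintype S] (H : Subgroup S) [Fintype H]
    {φ : S → ℂ} (hφ : IsCharacter S φ) :
    ∃ m a : ℕ, ∑ z : S, φ z = ((Nat.card S * m : ℕ) : ℂ) ∧
      ∑ z : H, φ z = ((Nat.card H * a : ℕ) : ℂ) ∧ m ≤ a := by
  classical
  letI : Fintype (IrrCharacter S) := irrFintype S
  let one : IrrCharacter S := ⟨fun _ => 1, Cfsg.Agent.Helper79.isIrrCharacter_one⟩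
  have hexp := isCharacter_eq_sum_irr hφ
  choose c hc using fun μ : IrrCharacter S => isCharacter_inner_irr_nat hφ μ
  choose b hb using fun μ : IrrCharacter S => sum_subgroup_eq_nat H (irr_isCharacter μ)
  have hS : (Nat.card S : ℂ) ≠ 0 := by exact_mod_cast Nat.card_pos.ne'
  have hb1 : b one = 1 := by
    have h1 := hb one
    have h2 : ∑ z : H, (one : S → ℂ) z = (Nat.card H : ℂ) := by
      simp [one, Nat.card_eq_fintype_card]
    rw [h2] at h1
    have h3 : Nat.card H = Nat.card H * b one := by exact_mod_cast h1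
    have := Nat.card_pos (α := H)
    nlinarith
  refine ⟨c one, ∑ μ : IrrCharacter S, c μ * b μ, ?_, ?_, ?_⟩
  · have h1 := hc one
    rw [classInner_def] at h1
    have h2 : ∑ g : S, φ g * conj ((one : S → ℂ) g) = ∑ g : S, φ g := by
      refine Finset.sum_congr rfl fun g _ => ?_
      simp [one]
    rw [h2] at h1
    push_cast
    rw [← h1, ← mul_assoc, mul_inv_cancel₀ hS, one_mul]
  · have h2 : ∀ z : H, φ z = ∑ μ : IrrCharacter S, (c μ : ℂ) * (μ : S → ℂ) z := by
      intro z
      have h3 := congrFun hexp z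
      simpa only [Finset.sum_apply, Pi.smul_apply, smul_eq_mul, hc] using h3
    simp only [h2]
    rw [Finset.sum_comm]
    simp only [← Finset.mul_sum, hb]
    push_cast
    rw [Finset.mul_sum]
    refine Finset.sum_congr rfl fun μ _ => ?_
    ring
  · calc c one = c one * b one := by rw [hb1, mul_one]
      _ ≤ ∑ μ : IrrCharacter S, c μ * b μ :=
        Finset.single_le_sum (f := fun μ => c μ * b μ) (fun _ _ => Nat.zero_le _)
          (Finset.mem_univ one)

variable {G : Type u} [Group G] [Fintype G] {Ω : Type*} [Fintype Ω] [MulAction G Ω]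

/-- `∑_g fix(g) f(g) = |Ω| ∑_{h ∈ G_a} f(h)` for a class function `f` and a transitive action. -/
theorem sum_fix_mul [IsPretransitive G Ω] (a : Ω) [Fintype (stabilizer G a)] {f : G → ℂ}
    (hf : IsClassFunction G f) :
    ∑ g : G, (Nat.card (fixedBy Ω g) : ℂ) * f g =
      (Fintype.card Ω : ℂ) * ∑ h : stabilizer G a, f h := by
  classical
  have h1 : ∀ g : G, (Nat.card (fixedBy Ω g) : ℂ) * f g =
      ∑ b : Ω, if g • b = b then f g else 0 := by
    intro g
    rw [← Finset.sum_filter, Finset.sum_const, Nat.card_eq_fintype_card, Fintype.card_subtype,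
      nsmul_eq_mul]
    simp [mem_fixedBy]
  simp only [h1]
  rw [Finset.sum_comm]
  have h2 : ∀ b : Ω, (∑ g : G, if g • b = b then f g else 0) = ∑ h : stabilizer G a, f h := by
    intro b
    obtain ⟨x, hx⟩ := exists_smul_eq G a b
    have h3 : (∑ h : stabilizer G a, f h) = ∑ g : G, if g • a = a then f g else 0 := by
      rw [← Finset.sum_filter]
      refine (Finset.sum_subtype _ (fun g => ?_) f).symm
      simp [mem_stabilizer_iff]
    rw [h3]
    refine Fintype.sum_equiv (MulAut.conj x⁻¹).toEquiv _ _ fun g => ?_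
    have h4 : (MulAut.conj x⁻¹).toEquiv g = x⁻¹ * g * x := by simp [MulAut.conj_apply]
    rw [h4]
    have h5 : (x⁻¹ * g * x) • a = a ↔ g • b = b := by
      rw [← hx, mul_smul, mul_smul, inv_smul_eq_iff]
    have h6 : f (x⁻¹ * g * x) = f g := by
      have := hf g x⁻¹
      rwa [inv_inv] at this
    simp only [h5, h6]
  simp only [h2]
  rw [Finset.sum_const, Finset.card_univ, nsmul_eq_mul]

/-- **`[π, ψ] ≤ [ψ|_H, 1_H]`** for `H ≤ G_a`: `|H| · mult ≤ ∑_{z ∈ H} ψ z`. -/
theorem card_mul_mult_le [IsPretransitive G Ω] (a : Ω) (ψ : IrrCharacter G) (H : Subgroup G)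
    [Fintype H] (hH : H ≤ stabilizer G a) :
    ∃ b : ℕ, ∑ z : H, (ψ : G → ℂ) z = ((Nat.card H * b : ℕ) : ℂ) ∧ mult Ω ψ ≤ b := by
  classical
  letI : Fintype (stabilizer G a) := Fintype.ofFinite _
  have hψc : IsCharacter G (ψ : G → ℂ) := irr_isCharacter ψ
  -- the multiplicity as an average over the stabilizer
  have hG : (Nat.card G : ℂ) ≠ 0 := by exact_mod_cast Nat.card_pos.ne'
  have hcardG : Fintype.card Ω * Nat.card (stabilizer G a) = Nat.card G := by
    have h1 := card_orbit_mul_card_stabilizer_eq_card_group G a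
    have h2 : Fintype.card (orbit G a) = Fintype.card Ω := by
      rw [← Nat.card_eq_fintype_card, ← Nat.card_eq_fintype_card, orbit_eq_univ G a,
        Nat.card_congr (Equiv.Set.univ Ω)]
    rw [h2] at h1
    simpa only [Nat.card_eq_fintype_card] using h1
  have hm : (Nat.card (stabilizer G a) : ℂ) * (mult Ω ψ : ℂ) =
      ∑ h : stabilizer G a, (ψ : G → ℂ) h := by
    have h1 := mult_spec (Ω := Ω) ψ
    have h2 : conj (classInner (permChar G Ω) (ψ : G → ℂ)) = (mult Ω ψ : ℂ) := by
      rw [h1]; simp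
    rw [classInner_def, map_mul, map_sum] at h2
    have h3 : ∀ g : G, conj (permChar G Ω g * conj ((ψ : G → ℂ) g)) =
        (Nat.card (fixedBy Ω g) : ℂ) * (ψ : G → ℂ) g := by
      intro g
      simp [permChar]
    simp only [h3] at h2
    rw [sum_fix_mul a (isClassFunction_of_isCharacter hψc)] at h2
    have h2' : (Nat.card G : ℂ)⁻¹ * ((Fintype.card Ω : ℂ) *
        ∑ h : stabilizer G a, (ψ : G → ℂ) h) = (mult Ω ψ : ℂ) := by
      simpa only [map_inv₀, map_natCast] using h2
    have hc : (Nat.card G : ℂ) = (Fintype.card Ω : ℂ) * (Nat.card (stabilizer G a) : ℂ) := by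
      exact_mod_cast hcardG.symm
    have hΩ : (Fintype.card Ω : ℂ) ≠ 0 := by
      intro h0
      apply hG
      rw [hc, h0, zero_mul]
    have hS : (Nat.card (stabilizer G a) : ℂ) ≠ 0 := by exact_mod_cast Nat.card_pos.ne'
    rw [← h2', hc]
    field_simp
  -- restriction to the stabilizer, then to `H`
  letI : Fintype (H.subgroupOf (stabilizer G a)) := Fintype.ofFinite _
  obtain ⟨m, b, h1, h2, h3⟩ := trivial_mult_le_restrict (H.subgroupOf (stabilizer G a))
    (isCharacter_restrict (stabilizer G a) hψc)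
  have hmm : mult Ω ψ = m := by
    have hS : (Nat.card (stabilizer G a) : ℂ) ≠ 0 := by exact_mod_cast Nat.card_pos.ne'
    rw [← hm] at h1
    push_cast at h1
    exact_mod_cast mul_left_cancel₀ hS h1
  refine ⟨b, ?_, hmm ▸ h3⟩
  have h4 : Nat.card (H.subgroupOf (stabilizer G a)) = Nat.card H :=
    Nat.card_congr (Subgroup.subgroupOfEquivOfLe hH).toEquiv
  rw [h4] at h2
  rw [← h2]
  refine (Fintype.sum_equiv (Subgroup.subgroupOfEquivOfLe hH).toEquiv _ _ fun z => ?_).symm
  rfl

end Cfsg.Agent.Helper82.Brauer43
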