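import Cfsg.Agent.Helper16.Brauer43.L3Defs
import Cfsg.Agent.Helper82.Brauer43.RankMult
import Cfsg.Agent.Helper82.Brauer43.RankCount
import Cfsg.Agent.Helper82.Brauer43.L4Glue

/-!
# Brauer 1943 (S0996), RANK part 2b (helper82): in the case `δ = -1` the normalizer `N_G(P)`
has exactly `n + 1` orbits on `Syl_p(G)`
-/

set_option autoImplicit false

namespace Cfsg.Agent.Helper82.Brauer43

open Cfsg Cfsg.Agent.Helper16 Cfsg.Agent.Helper16.DefOne Cfsg.Agent.Helper82.DefOne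
  Cfsg.Agent.Helper77.DefOne Cfsg.Agent.Helper16.Brauer43 Cfsg.Agent.Helper74
  Cfsg.Agent.Helper12.PermCharBasics MulAction
open scoped ComplexConjugate

universe u

variable {G : Type u} [Group G] [Fintype G] {p : ℕ} [Fact p.Prime] (P : Sylow p G)
  [Fintype (P : Subgroup G)] (D : L0Data P)

theorem deg_eq_charDegree (ψ : IrrCharacter G) : deg ψ = charDegree (ψ : G → ℂ) := by
  have h1 := deg_spec ψ
  have h2 := charDegree_cast (irr_isCharacter ψ)
  rw [← h2] at h1
  exact_mod_cast h1.symm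

/-- **RANK**: `N_G(P)` has exactly `n + 1` orbits on `Syl_p(G)`. -/
theorem rank_eq (hP : Nat.card P = p) (e n t a : ℕ)
    (he : (cen P).relIndex (nor P) = e) (hS : Nat.card (Sylow p G) = 1 + n * p)
    (hte : p = t * e + 1) (hat : a * t = n + 1) (ha : 1 ≤ a) (he1 : 1 ≤ e) (ht : 1 ≤ t)
    (hδ : D.δ = -1)
    (h1X : Helper79.principalIrr G ∈ D.X)
    (hXp : ∀ χ ∈ D.X, D.ε χ = 1 →
      χ = Helper79.principalIrr G ∨ 1 + n * p ≤ charDegree (χ : G → ℂ))
    (hXm : ∀ χ ∈ D.X, D.ε χ = -1 → charDegree (χ : G → ℂ) = p - 1)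
    (hY : ∀ ψ ∈ D.Y, charDegree (ψ : G → ℂ) + e = a * p)
    (hsq : ∑ᶠ ψ ∈ (D.X ∪ D.Y)ᶜ, (charDegree ((ψ : IrrCharacter G) : G → ℂ)) ^ 2 = n * p ^ 2) :
    Nat.card (orbitRel.Quotient (stabilizer G P) (Sylow p G)) = n + 1 := by
  classical
  have hp : p.Prime := Fact.out
  have hp1 : 1 ≤ p := hp.one_lt.le
  letI : Fintype (IrrCharacter G) := irrFintype G
  letI : Fintype (Sylow p G) := Fintype.ofFinite _
  have hΩ : Fintype.card (Sylow p G) = 1 + n * p := by
    rw [← Nat.card_eq_fintype_card]; exact hS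
  set one : IrrCharacter G := Helper79.principalIrr G with hone
  have hone' : one = irrTriv G := Subtype.ext rfl
  -- multiplicities and their bounds
  set m : IrrCharacter G → ℕ := fun ψ => mult (Sylow p G) ψ with hm
  have hPle : (P : Subgroup G) ≤ stabilizer G P := by
    rw [Sylow.stabilizer_eq_normalizer]
    exact Subgroup.le_normalizer
  choose b hb hmb using fun ψ : IrrCharacter G => card_mul_mult_le P ψ (P : Subgroup G) hPle
  simp only [hP] at hb
  have hm1 : m one = 1 := by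
    rw [hm, hone']
    exact mult_irrTriv P
  have hd1 : charDegree (one : G → ℂ) = 1 := by
    have := charDegree_cast (irr_isCharacter one)
    have h2 : (one : G → ℂ) 1 = 1 := rfl
    rw [h2] at this
    exact_mod_cast this
  set d : IrrCharacter G → ℕ := fun ψ => charDegree (ψ : G → ℂ) with hd
  have hdc : ∀ ψ : IrrCharacter G, (ψ : G → ℂ) 1 = (d ψ : ℂ) := fun ψ =>
    (charDegree_cast (irr_isCharacter ψ)).symm
  have hdpos : ∀ ψ : IrrCharacter G, 0 < d ψ := fun ψ => by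
    have := deg_pos ψ
    rwa [deg_eq_charDegree] at this
  -- the degree of the permutation character
  have hdeg : ∑ ψ : IrrCharacter G, m ψ * d ψ = 1 + n * p := by
    have := sum_mult_deg (G := G) (Ω := Sylow p G)
    simp only [deg_eq_charDegree] at this
    rw [hΩ] at this
    exact this
  -- the rank
  have hrank : ∑ ψ : IrrCharacter G, m ψ ^ 2 =
      Nat.card (orbitRel.Quotient (stabilizer G P) (Sylow p G)) := sum_mult_sq P
  -- the characters of `X`
  have hmX : ∀ χ ∈ D.X, χ ≠ one → m χ = 0 := by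
    intro χ hχ hne
    rcases D.hε χ with h1 | h1
    · rcases hXp χ hχ h1 with h2 | h2
      · exact absurd h2 hne
      · by_contra h0
        have h3 : m one * d one + m χ * d χ ≤ ∑ ψ : IrrCharacter G, m ψ * d ψ := by
          rw [← Finset.sum_pair (f := fun ψ => m ψ * d ψ) (Ne.symm hne)]
          exact Finset.sum_le_sum_of_subset (Finset.subset_univ _)
        rw [hdeg, hm1] at h3
        have h4 : d one = 1 := hd1
        rw [h4] at h3
        have h5 : 1 ≤ m χ := Nat.one_le_iff_ne_zero.mpr h0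
        have h6 : 1 + n * p ≤ m χ * d χ := le_trans h2 (Nat.le_mul_of_pos_left _ h5)
        omega
    · have h2 := hXm χ hχ h1
      have hsum := sum_P_of_const P hP (χ : G → ℂ) (D.ε χ : ℂ) (D.hX χ hχ)
      rw [hb χ, hdc χ, h1] at hsum
      have h3 : d χ = p - 1 := h2
      rw [h3] at hsum
      have h4 : ((p * b χ : ℕ) : ℂ) = 0 := by
        rw [hsum, Nat.cast_sub hp1]
        push_cast
        ring
      have h5 : p * b χ = 0 := by exact_mod_cast h4
      have h6 : b χ = 0 := by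
        rcases Nat.mul_eq_zero.mp h5 with h | h
        · omega
        · exact h
      have h7 : m χ ≤ b χ := hmb χ
      omega
  -- the characters of `Y`
  have hbY : ∀ ψ ∈ D.Y, b ψ = a := by
    intro ψ hψ
    have h1 := D.hY1 ψ hψ
    rw [hb ψ, he, hδ] at h1
    have h2 : ((p * b ψ : ℕ) : ℂ) = ((d ψ + e : ℕ) : ℂ) := by
      rw [h1]; push_cast; ring
    have h3 : p * b ψ = d ψ + e := by exact_mod_cast h2
    have h4 : d ψ + e = a * p := hY ψ hψ
    rw [h4, mul_comm] at h3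
    exact Nat.eq_of_mul_eq_mul_right (by omega) h3
  -- the remaining characters
  have hbZ : ∀ ψ : IrrCharacter G, ψ ∉ D.X → ψ ∉ D.Y → d ψ = p * b ψ := by
    intro ψ hX hY'
    have hsum := sum_P_of_const P hP (ψ : G → ℂ) 0 (D.hZ ψ hX hY')
    rw [hb ψ, hdc ψ, mul_zero, add_zero] at hsum
    exact_mod_cast hsum.symm
  -- splitting sums over `X`, `Y` and the rest
  have hsplit : ∀ f : IrrCharacter G → ℕ, ∑ ψ : IrrCharacter G, f ψ =
      ∑ ψ ∈ Finset.univ.filter (· ∈ D.X), f ψ + ∑ ψ ∈ Finset.univ.filter (· ∈ D.Y), f ψ +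
        ∑ ψ ∈ Finset.univ.filter (fun ψ => ψ ∉ D.X ∧ ψ ∉ D.Y), f ψ := by
    intro f
    rw [← Finset.sum_filter_add_sum_filter_not Finset.univ (· ∈ D.X) f, add_assoc]
    congr 1
    rw [← Finset.sum_filter_add_sum_filter_not (Finset.univ.filter (fun ψ => ψ ∉ D.X))
      (· ∈ D.Y) f]
    congr 1
    · refine Finset.sum_congr ?_ fun _ _ => rfl
      ext ψ
      simp only [Finset.mem_filter, Finset.mem_univ, true_and]
      constructor
      · rintro ⟨-, h⟩; exact h
      · intro h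
        exact ⟨fun hx => Set.disjoint_left.mp D.hdisj hx h, h⟩
    · refine Finset.sum_congr ?_ fun _ _ => rfl
      ext ψ
      simp only [Finset.mem_filter, Finset.mem_univ, true_and]
  have hsumX : ∀ f : IrrCharacter G → ℕ, (∀ χ ∈ D.X, χ ≠ one → f χ = 0) →
      ∑ ψ ∈ Finset.univ.filter (· ∈ D.X), f ψ = f one := by
    intro f hf
    rw [Finset.sum_eq_single one]
    · intro χ hχ hne
      exact hf χ (Finset.mem_filter.mp hχ).2 hne
    · intro h
      exact absurd (Finset.mem_filter.mpr ⟨Finset.mem_univ _, h1X⟩) h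
  set Yf := Finset.univ.filter (fun ψ : IrrCharacter G => ψ ∈ D.Y) with hYf
  set Zf := Finset.univ.filter (fun ψ : IrrCharacter G => ψ ∉ D.X ∧ ψ ∉ D.Y) with hZf
  -- the degree equation
  have hdeg2 : n * p = ∑ ψ ∈ Yf, m ψ * d ψ + ∑ ψ ∈ Zf, m ψ * d ψ := by
    have h1 := hsplit (fun ψ => m ψ * d ψ)
    rw [hdeg, hsumX (fun ψ => m ψ * d ψ) (fun χ hχ hne => by
      show m χ * d χ = 0
      rw [hmX χ hχ hne, zero_mul])] at h1
    have h2 : m one * d one = 1 := by
      rw [hm1]; show 1 * charDegree (one : G → ℂ) = 1; rw [hd1]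
    rw [h2] at h1
    omega
  set M : ℕ := ∑ ψ ∈ Yf, m ψ with hM
  have hYdeg : ∑ ψ ∈ Yf, m ψ * d ψ + e * M = a * p * M := by
    rw [hM, Finset.mul_sum, Finset.mul_sum, ← Finset.sum_add_distrib]
    refine Finset.sum_congr rfl fun ψ hψ => ?_
    have h1 : d ψ + e = a * p := hY ψ (Finset.mem_filter.mp hψ).2
    rw [← h1]
    ring
  have hZdeg : ∑ ψ ∈ Zf, m ψ * d ψ = p * ∑ ψ ∈ Zf, m ψ * b ψ := by
    rw [Finset.mul_sum]
    refine Finset.sum_congr rfl fun ψ hψ => ?_
    have h1 := Finset.mem_filter.mp hψ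
    rw [hbZ ψ h1.2.1 h1.2.2]
    ring
  -- `p ∣ M`
  have hep : e < p := by
    rw [hte]
    nlinarith
  have hpM : p ∣ M := by
    have h1 : p ∣ e * M := by
      have h2 : n * p + e * M = a * p * M + p * ∑ ψ ∈ Zf, m ψ * b ψ := by
        linarith
      have h3 : p ∣ n * p + e * M := by
        rw [h2]
        exact Dvd.dvd.add (Dvd.intro (a * M) (by ring)) (Dvd.intro _ rfl)
      exact (Nat.dvd_add_right (Dvd.intro_left _ rfl)).mp h3
    rcases (Nat.Prime.dvd_mul hp).mp h1 with h | h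
    · exact absurd (Nat.le_of_dvd (by omega) h) (by omega)
    · exact h
  have hM0 : M = 0 := by
    by_contra h0
    have h1 : p ≤ M := Nat.le_of_dvd (Nat.pos_of_ne_zero h0) hpM
    -- `(a p - e) p ≤ n p`
    have h2 : a * p * M ≤ n * p + e * M := by
      rw [← hYdeg, hdeg2]; omega
    -- contradiction
    have h3 : (a * p - e) * M ≤ n * p := by
      rw [Nat.sub_mul]; omega
    have h4 : (a * p - e) * p ≤ n * p := le_trans (Nat.mul_le_mul_left _ h1) h3
    have h5 : a * p - e ≤ n := Nat.le_of_mul_le_mul_right h4 (by omega)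
    -- `a p - e ≤ a t - 1`
    have h6 : a * p ≤ n + e := by omega
    have h7 : a * (t * e + 1) ≤ a * t - 1 + e := by
      rw [← hte]; omega
    have h10 : 1 ≤ a * t := Nat.mul_pos ha ht
    have h8 : a * t + e ≤ a * (t * e) + 1 := by
      have h12 : a * (t * e) = (a * t) * e := by ring
      rw [h12]
      obtain ⟨q, hq⟩ := Nat.exists_eq_add_of_le h10
      obtain ⟨r, hr⟩ := Nat.exists_eq_add_of_le he1
      rw [hq, hr]
      ring_nf
      omega
    have h11 : a * (t * e + 1) = a * (t * e) + a := by ring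
    omega
  have hmY : ∀ ψ ∈ Yf, m ψ = 0 := by
    intro ψ hψ
    have := (Finset.sum_eq_zero_iff (s := Yf) (f := m)).mp hM0 ψ hψ
    exact this
  -- `∑_Z m b = n`
  have hZmb : ∑ ψ ∈ Zf, m ψ * b ψ = n := by
    have h1 : ∑ ψ ∈ Yf, m ψ * d ψ = 0 :=
      Finset.sum_eq_zero fun ψ hψ => by rw [hmY ψ hψ, zero_mul]
    rw [h1, zero_add, hZdeg] at hdeg2
    have h2 : p * ∑ ψ ∈ Zf, m ψ * b ψ = p * n := by rw [mul_comm p n]; exact hdeg2.symm
    exact Nat.eq_of_mul_eq_mul_left (by omega) h2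
  -- `∑_Z b² = n`
  have hZbb : ∑ ψ ∈ Zf, b ψ * b ψ = n := by
    have hfin : ((D.X ∪ D.Y)ᶜ : Set (IrrCharacter G)).Finite := Set.toFinite _
    rw [finsum_mem_eq_finite_toFinset_sum _ hfin] at hsq
    have h1 : hfin.toFinset = Zf := by
      ext ψ
      simp only [Set.Finite.mem_toFinset, Set.mem_compl_iff, Set.mem_union, not_or, hZf,
        Finset.mem_filter, Finset.mem_univ, true_and]
    rw [h1] at hsq
    have h2 : ∑ ψ ∈ Zf, charDegree ((ψ : IrrCharacter G) : G → ℂ) ^ 2 =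
        p ^ 2 * ∑ ψ ∈ Zf, b ψ * b ψ := by
      rw [Finset.mul_sum]
      refine Finset.sum_congr rfl fun ψ hψ => ?_
      have h3 := Finset.mem_filter.mp hψ
      have h4 : charDegree (ψ : G → ℂ) = p * b ψ := hbZ ψ h3.2.1 h3.2.2
      rw [h4]
      ring
    rw [h2, mul_comm] at hsq
    exact Nat.eq_of_mul_eq_mul_right (by positivity) hsq
  -- `m = b` on `Z`
  have hmZ : ∀ ψ ∈ Zf, m ψ = b ψ := by
    have h1 : ∀ ψ ∈ Zf, m ψ * b ψ ≤ b ψ * b ψ := fun ψ _ => Nat.mul_le_mul_right _ (hmb ψ)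
    have h2 := (Finset.sum_eq_sum_iff_of_le h1).mp (by rw [hZmb, hZbb])
    intro ψ hψ
    have h3 := h2 ψ hψ
    have h4 := Finset.mem_filter.mp hψ
    have h5 : 0 < b ψ := by
      have := hdpos ψ
      rw [hbZ ψ h4.2.1 h4.2.2] at this
      exact Nat.pos_of_mul_pos_left this
    exact Nat.eq_of_mul_eq_mul_right h5 h3
  -- the rank
  rw [← hrank, hsplit (fun ψ => m ψ ^ 2), hsumX (fun ψ => m ψ ^ 2) (fun χ hχ hne => by
    show m χ ^ 2 = 0
    rw [hmX χ hχ hne]; rfl)]
  have h1 : ∑ ψ ∈ Yf, m ψ ^ 2 = 0 :=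
    Finset.sum_eq_zero fun ψ hψ => by rw [hmY ψ hψ]; rfl
  have h2 : ∑ ψ ∈ Zf, m ψ ^ 2 = n := by
    rw [← hZbb]
    refine Finset.sum_congr rfl fun ψ hψ => ?_
    rw [hmZ ψ hψ]; ring
  rw [h1, h2, hm1]
  ring

open scoped Pointwise in
/-- **RANK ⇒ `hsum`** (the hypothesis of helper77's `card_Ez_of_sum`, PG9). -/
theorem hsum_of_config (hP : Nat.card P = p) (e n t a : ℕ)
    (he : (cen P).relIndex (nor P) = e) (hS : Nat.card (Sylow p G) = 1 + n * p)
    (hN : Nat.card (Subgroup.normalizer ((P : Subgroup G) : Set G)) = p * e)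
    (hte : p = t * e + 1) (hat : a * t = n + 1) (ha : 1 ≤ a) (he1 : 1 ≤ e) (ht : 1 ≤ t)
    (hδ : D.δ = -1)
    (h1X : Helper79.principalIrr G ∈ D.X)
    (hXp : ∀ χ ∈ D.X, D.ε χ = 1 →
      χ = Helper79.principalIrr G ∨ 1 + n * p ≤ charDegree (χ : G → ℂ))
    (hXm : ∀ χ ∈ D.X, D.ε χ = -1 → charDegree (χ : G → ℂ) = p - 1)
    (hY : ∀ ψ ∈ D.Y, charDegree (ψ : G → ℂ) + e = a * p)
    (hsq : ∑ᶠ ψ ∈ (D.X ∪ D.Y)ᶜ, (charDegree ((ψ : IrrCharacter G) : G → ℂ)) ^ 2 = n * p ^ 2) :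
    ∑ᶠ g : G, Nat.card ↥(Subgroup.normalizer ((P : Subgroup G) : Set G) ⊓
      MulAut.conj g • Subgroup.normalizer ((P : Subgroup G) : Set G)) = (n + 1) * (p * e) ^ 2 :=
  hsum_of_rank P n (p * e) hN
    (rank_eq P D hP e n t a he hS hte hat ha he1 ht hδ h1X hXp hXm hY hsq)

end Cfsg.Agent.Helper82.Brauer43
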