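import Cfsg.Agent.Helper16.Brauer43.L3
import Cfsg.Agent.Helper82.Brauer43.L4Glue
import Cfsg.Agent.Helper82.Brauer43.RankCore

/-!
# Brauer 1943 (S0996): the whole character side (helper82)

From the conclusion `ConfigConcl` of helper16's `config_main` (no bound on `n` is used here):
either `t = 2` and `n = 1`, or `δ = -1` and `∑_g |N ∩ g N g⁻¹| = (n + 1) |N|²`
(the hypothesis `hsum` of helper77's `card_Ez_of_sum`), together with the arithmetic relations.
-/

set_option autoImplicit false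

namespace Cfsg.Agent.Helper82.Brauer43

open Cfsg Cfsg.Agent.Helper16 Cfsg.Agent.Helper16.DefOne Cfsg.Agent.Helper82.DefOne
  Cfsg.Agent.Helper77.DefOne Cfsg.Agent.Helper16.Brauer43 Cfsg.Agent.Helper74
open scoped ComplexConjugate Pointwise

universe u

variable {G : Type u} [Group G] [Fintype G] {p : ℕ} [Fact p.Prime] (P : Sylow p G)
  [Fintype (P : Subgroup G)] (D : L0Data P)

/-- The conclusion of `Cfsg.Agent.Helper16.Brauer43.config_main` / `config_core`. -/
def ConfigConcl (n t : ℕ) : Prop :=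
  (∀ χ ∈ D.Xplus, charDegree (χ : G → ℂ) = 1 + n * p) ∧
  (∀ χ ∈ D.Xminus, charDegree (χ : G → ℂ) + 1 = p) ∧
  1 + Nat.card D.Xplus + Nat.card D.Xminus = (cen P).relIndex (nor P) ∧
  ((D.δ = 1 ∧ (∀ ψ ∈ D.Y, charDegree (ψ : G → ℂ) = (cen P).relIndex (nor P)) ∧
      Nat.card D.Xminus = n * Nat.card D.Xplus ∧
      (cen P).relIndex (nor P) = 1 + Nat.card D.Xplus * (n + 1)) ∨
   (D.δ = -1 ∧ ∃ a : ℕ, a * t = n + 1 ∧
      (∀ ψ ∈ D.Y, charDegree (ψ : G → ℂ) + (cen P).relIndex (nor P) = a * p) ∧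
      Nat.card D.Xminus = a + n * Nat.card D.Xplus ∧
      (cen P).relIndex (nor P) = 1 + a * (1 + t * Nat.card D.Xplus) ∧
      ∑ᶠ χ ∈ D.Zset, charDegree (χ : G → ℂ) ^ 2 = n * p ^ 2))

theorem configConcl_of_main (hP : Nat.card P = p) (hC : cen P = (P : Subgroup G))
    (hperf : commutator G = ⊤) (n : ℕ) (hs : (nor P).index = 1 + n * p) (hn1 : 1 ≤ n)
    (hn : 2 * n ≤ p + 1) (t : ℕ) (hte : t * (cen P).relIndex (nor P) = p - 1) (ht : 2 ≤ t) :
    ConfigConcl P D n t :=
  config_main P D hP hC hperf n hs hn1 hn t hte ht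

/-- **The character side of Brauer 1943.** -/
theorem char_side (hP : Nat.card P = p) (hC : cen P = (P : Subgroup G))
    (hperf : commutator G = ⊤) (n t : ℕ) (hs : (nor P).index = 1 + n * p) (hn1 : 1 ≤ n)
    (hte : t * (cen P).relIndex (nor P) = p - 1) (ht : 2 ≤ t) (hcfg : ConfigConcl P D n t) :
    (t = 2 ∧ n = 1) ∨
    (D.δ = -1 ∧ ∃ a : ℕ, a * t = n + 1 ∧
      (cen P).relIndex (nor P) = 1 + a * (1 + t * Nat.card D.Xplus) ∧
      ∑ᶠ g : G, Nat.card ↥(Subgroup.normalizer ((P : Subgroup G) : Set G) ⊓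
        MulAut.conj g • Subgroup.normalizer ((P : Subgroup G) : Set G)) =
        (n + 1) * (p * (cen P).relIndex (nor P)) ^ 2) := by
  classical
  have hp : p.Prime := Fact.out
  obtain ⟨he1, hed, hep⟩ := e_basic P hP
  have hp2 := hp.two_le
  have ht' : 2 ≤ (p - 1) / (cen P).relIndex (nor P) := by
    rw [← hte, Nat.mul_div_cancel _ he1]
    exact ht
  obtain ⟨hprX, hprε⟩ := GL.principal_mem_X P D hperf ht'
  obtain ⟨hXp, hXm, -, hcase⟩ := hcfg
  have hYne : D.Y.Nonempty := by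
    rw [← Set.nonempty_coe_sort, ← Finite.card_pos_iff (α := D.Y), D.hcY]
    omega
  obtain ⟨θ, hθ⟩ := hYne
  -- abbreviate `e`
  obtain ⟨e, he⟩ : ∃ e : ℕ, (cen P).relIndex (nor P) = e := ⟨_, rfl⟩
  rw [he] at hte he1 hed hep hcase ⊢
  have hte' : p = t * e + 1 := by omega
  rcases hcase with ⟨hδ, hY, -, -⟩ | ⟨hδ, a, hat, hY, -, hek, hsq⟩
  · left
    -- `e ≥ 2`: otherwise `θ` is linear, hence principal, but `1 ∈ X`
    have he2 : 2 ≤ e := by
      by_contra hlt
      have he1' : e = 1 := by omega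
      have h1 : (θ : G → ℂ) 1 = 1 := by
        rw [← charDegree_cast (irr_isCharacter θ), hY θ hθ, he1']
        simp
      have h2 := Cfsg.Agent.Helper20.D8.eq_principal_of_degree_one hperf θ h1
      rw [h2] at hθ
      exact Set.disjoint_left.mp D.hdisj hprX hθ
    refine eps_plus_n_eq_one P D hP e n t he hte' he2 ht hn1 hδ ?_ θ hθ hY
    intro χ hχ hε
    by_cases hne : χ = Helper79.principalIrr G
    · left; rw [hne]; rfl
    · right; exact hXp χ ⟨hχ, hne, hε⟩
  · right
    refine ⟨hδ, a, hat, hek, ?_⟩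
    have hnor := nor_eq_normalizer P hP
    have hS : Nat.card (Sylow p G) = 1 + n * p := by
      rw [Sylow.card_eq_index_normalizer P, ← hs, hnor]
      rfl
    have hN : Nat.card (Subgroup.normalizer ((P : Subgroup G) : Set G)) = p * e := by
      rw [← hnor, card_nor_eq P, he, hC, hP, mul_comm]
    have ha : 1 ≤ a := by
      rcases Nat.eq_zero_or_pos a with h | h
      · rw [h, zero_mul] at hat; omega
      · exact h
    refine hsum_of_config P D hP e n t a he hS hN hte' hat ha he1 (by omega) hδ hprX ?_ ?_ hY ?_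
    · intro χ hχ hε
      by_cases hne : χ = Helper79.principalIrr G
      · left; exact hne
      · right; exact (hXp χ ⟨hχ, hne, hε⟩).ge
    · intro χ hχ hε
      have := hXm χ ⟨hχ, hε⟩
      omega
    · have hZ : ((D.X ∪ D.Y)ᶜ : Set (IrrCharacter G)) = D.Zset := by
        ext χ
        simp only [Set.mem_compl_iff, Set.mem_union, not_or, L0Data.Zset, Set.mem_ofPred_eq]
      rw [hZ]
      exact hsq

end Cfsg.Agent.Helper82.Brauer43
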